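import Cfsg.Agent.Lib.Recognition.J3Orbits.Code
import Cfsg.Agent.Lib.Sporadic.J3

/-!
The vectors coded by numbers, the action of the two generators on them, and orbits on lines from a
checked table.
-/

set_option autoImplicit false
set_option maxRecDepth 20000

namespace CfsgLib.Recognition.J3Orbits

open CfsgLib.Sporadic CfsgLib.Sporadic.J3 Cfsg.Spor

variable {F : Type*} [Field F] {ω : F}

/-- The scalar with a two-bit code. -/
def elt (ω : F) : ℕ → F
  | 0 => 0
  | 1 => 1
  | 2 => ω
  | _ => ω ^ 2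

/-- The vector with a code. -/
def vF (ω : F) (c : ℕ) : F9 → F := fun z => elt ω (pairAt (ptIdx z) c)

theorem ptIdx_lt : ∀ z : F9, ptIdx z < 9 := by decide

theorem exists_ptIdx : ∀ n < 9, ∃ z : F9, ptIdx z = n := by decide

theorem pairAt_lt (n c : ℕ) : pairAt n c < 4 := Nat.mod_lt _ (by norm_num)

theorem pairAt_xor (n a b : ℕ) : pairAt n (a ^^^ b) = pairAt n a ^^^ pairAt n b := by
  rw [pairAt, pairAt, pairAt, Nat.shiftRight_xor_distrib, show (4 : ℕ) = 2 ^ 2 from rfl,
    Nat.xor_mod_two_pow]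

theorem pairAt_eq (n c : ℕ) :
    pairAt n c = (c.testBit (2 * n)).toNat + 2 * (c.testBit (2 * n + 1)).toNat := by
  rw [pairAt, Nat.shiftRight_eq_div_pow, Nat.toNat_testBit, Nat.toNat_testBit, pow_succ, ← Nat.div_div_eq_div_mul]
  omega

theorem mask_bits : ∀ n < 9, (0x15555 : ℕ).testBit (2 * n) = true ∧ (0x15555 : ℕ).testBit (2 * n + 1) = false := by
  decide

theorem pairAt_wMul {n : ℕ} (hn : n < 9) (c : ℕ) :
    pairAt n (wMul c) = [0, 2, 3, 1].getD (pairAt n c) 0 := by
  obtain ⟨h1, h2⟩ := mask_bits n hn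
  have e0 : (wMul c).testBit (2 * n) = c.testBit (2 * n + 1) := by
    rw [wMul, Nat.testBit_or, Nat.testBit_and, Nat.testBit_shiftRight, h1, Nat.testBit_shiftLeft,
      Nat.add_comm 1 (2 * n)]
    rcases Nat.eq_zero_or_pos n with rfl | hpos
    · simp
    · obtain ⟨m, rfl⟩ : ∃ m, n = m + 1 := ⟨n - 1, by omega⟩
      have h3 := (mask_bits m (by omega)).2
      rw [show 2 * (m + 1) - 1 = 2 * m + 1 by omega]
      simp [h3, Nat.testBit_xor, Nat.testBit_and]
  have e1 : (wMul c).testBit (2 * n + 1) = xor (c.testBit (2 * n)) (c.testBit (2 * n + 1)) := by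
    rw [wMul, Nat.testBit_or, Nat.testBit_and, h2, Nat.testBit_shiftLeft, Nat.add_sub_cancel,
      Nat.testBit_xor, Nat.testBit_and, Nat.testBit_and, Nat.testBit_shiftRight, Nat.testBit_shiftRight,
      h1, Nat.add_comm 1 (2 * n)]
    simp
  rw [pairAt_eq, pairAt_eq, e0, e1]
  cases c.testBit (2 * n) <;> cases c.testBit (2 * n + 1) <;> rfl

section

variable (h : FieldFour F ω)
include h

theorem elt_xor : ∀ a < 4, ∀ b < 4, elt ω (a ^^^ b) = elt ω a + elt ω b := by
  intro a ha b hb
  have h2 := h.two_eq_zero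
  have hs := h.sq_eq
  interval_cases a <;> interval_cases b <;> simp [elt] <;>
    first
      | rfl
      | ring1
      | linear_combination h2
      | linear_combination -h2
      | linear_combination ω * h2
      | linear_combination -ω * h2
      | linear_combination ω ^ 2 * h2
      | linear_combination -(ω ^ 2) * h2
      | linear_combination hs
      | linear_combination -hs
      | linear_combination hs + h2
      | linear_combination -hs - h2
      | linear_combination hs + ω * h2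
      | linear_combination -hs - ω * h2
      | linear_combination hs + (ω + 1) * h2
      | linear_combination -hs - (ω + 1) * h2

theorem elt_wtab : ∀ a < 4, elt ω ([0, 2, 3, 1].getD a 0) = ω * elt ω a := by
  intro a ha
  interval_cases a <;> simp [elt]
  · ring
  · linear_combination -h.cube

theorem elt_eq_zero : ∀ a < 4, elt ω a = 0 ↔ a = 0 := by
  intro a ha
  interval_cases a <;> simp [elt, h.ne_zero]

theorem elt_injOn : ∀ a < 4, ∀ b < 4, elt ω a = elt ω b → a = b := by
  intro a ha b hb he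
  have h1 := elt_xor h a ha b hb
  rw [he, ← two_mul, h.two_eq_zero, zero_mul] at h1
  have h2 : a ^^^ b < 2 ^ 2 := Nat.xor_lt_two_pow ha hb
  exact Nat.eq_of_xor_eq_zero ((elt_eq_zero h _ h2).1 h1)

theorem vF_zero : vF ω 0 = 0 := funext fun z => by simp [vF, pairAt, elt]

theorem vF_xor (a b : ℕ) : vF ω (a ^^^ b) = vF ω a + vF ω b := funext fun z => by
  show elt ω _ = elt ω _ + elt ω _
  rw [pairAt_xor, elt_xor h _ (pairAt_lt _ _) _ (pairAt_lt _ _)]

theorem vF_wMul (c : ℕ) : vF ω (wMul c) = ω • vF ω c := funext fun z => by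
  show elt ω _ = ω * elt ω _
  rw [pairAt_wMul (ptIdx_lt z), elt_wtab h _ (pairAt_lt _ _)]

theorem vF_scal (k c : ℕ) (hk : k < 4) : vF ω (scal k c) = elt ω k • vF ω c := by
  interval_cases k
  · simp [scal, elt, vF_zero h]
  · simp [scal, elt]
  · simp [scal, elt, vF_wMul h]
  · simp [scal, elt, vF_xor h, vF_wMul h, h.sq_eq, add_smul, add_comm]

theorem vF_foldl (f : ℕ → ℕ) : ∀ (l : List ℕ) (a : ℕ),
    vF ω (l.foldl (fun a n => a ^^^ f n) a) = vF ω a + (l.map fun n => vF ω (f n)).sum
  | [], a => by simp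
  | n :: l, a => by
    rw [List.foldl_cons, vF_foldl f l, vF_xor h, List.map_cons, List.sum_cons, add_assoc]

omit h in
theorem sum_range_nine {A : Type*} [AddCommMonoid A] (f : ℕ → A) :
    ((List.range 9).map f).sum = ∑ z : F9, f (ptIdx z) := by
  rw [show List.range 9 = [0, 1, 2, 3, 4, 5, 6, 7, 8] from rfl, Fintype.sum_prod_type]
  simp only [List.map_cons, List.map_nil, List.sum_cons, List.sum_nil, add_zero]
  show _ = ∑ x : Fin 3, ∑ y : Fin 3, f (ptIdx ((x, y) : F9))
  simp only [Fin.sum_univ_three, add_assoc]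
  rfl

theorem vF_injOn {a b : ℕ} (ha : a < 2 ^ 18) (hb : b < 2 ^ 18) (he : vF ω a = vF ω b) : a = b := by
  refine Nat.eq_of_testBit_eq fun i => ?_
  by_cases hi : i < 18
  · obtain ⟨z, hz⟩ := exists_ptIdx (i / 2) (by omega)
    have h1 := elt_injOn h _ (pairAt_lt _ _) _ (pairAt_lt _ _) (congrFun he z)
    rw [hz, pairAt_eq, pairAt_eq] at h1
    rcases Nat.mod_two_eq_zero_or_one i with h2 | h2
    · rw [show i = 2 * (i / 2) by omega]
      revert h1
      cases a.testBit (2 * (i / 2)) <;> cases b.testBit (2 * (i / 2)) <;>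
        cases a.testBit (2 * (i / 2) + 1) <;> cases b.testBit (2 * (i / 2) + 1) <;> simp
    · rw [show i = 2 * (i / 2) + 1 by omega]
      revert h1
      cases a.testBit (2 * (i / 2)) <;> cases b.testBit (2 * (i / 2)) <;>
        cases a.testBit (2 * (i / 2) + 1) <;> cases b.testBit (2 * (i / 2) + 1) <;> simp
  · have hp : 2 ^ 18 ≤ 2 ^ i := Nat.pow_le_pow_right (by norm_num) (by omega)
    rw [Nat.testBit_lt_two_pow (ha.trans_le hp), Nat.testBit_lt_two_pow (hb.trans_le hp)]

theorem exists_code (v : F9 → F) : ∃ c < 2 ^ 18, vF ω c = v := by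
  have := h.finite
  let f : Fin (2 ^ 18) → F9 → F := fun c => vF ω c.val
  have hf : Function.Injective f := fun a b e => Fin.ext (vF_injOn h a.2 b.2 e)
  have hc : Nat.card (Fin (2 ^ 18)) = Nat.card (F9 → F) := by
    rw [Nat.card_fun, h.card, Nat.card_prod, Nat.card_zmod, Nat.card_fin]
    norm_num
  obtain ⟨c, hcv⟩ := ((Nat.bijective_iff_injective_and_card f).2 ⟨hf, hc⟩).2 v
  exact ⟨c.val, c.2, hcv⟩

theorem reg_col (x : F) : x = elt ω ((h.reg x 0 0).val + 2 * (h.reg x 1 0).val) := by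
  rcases h.cases x with rfl | rfl | rfl | rfl
  · simp [elt]
  · simp [elt, show (1 : ZMod 2).val = 1 from rfl]
  · rw [h.reg_omega]; simp [omegaMat, elt, show (1 : ZMod 2).val = 1 from rfl]
  · rw [map_pow, h.reg_omega, show omegaMat ^ 2 = !![1, 1; 1, 0] by decide]
    simp [elt, show (1 : ZMod 2).val = 1 from rfl]

omit h in
theorem col_check : topGens.length = 2 ∧ ∀ g : Fin 2, ∀ r z : F9,
    (decF2 18 (topGens.getD g.val 0) (idxEquiv.symm (r, 0)) (idxEquiv.symm (z, 0))).val +
        2 * (decF2 18 (topGens.getD g.val 0) (idxEquiv.symm (r, 1)) (idxEquiv.symm (z, 0))).val =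
      pairAt (ptIdx r) ((colT.getD g.val []).getD (ptIdx z) 0) := by
  decide +kernel

theorem vF_mv (g : Fin 2) (s : GL F9 F) (hs : h.emb s = decF2 18 (topGens.getD g.val 0)) (c : ℕ) :
    vF ω (mv g.val c) = (s : Matrix F9 F9 F).mulVec (vF ω c) := by
  rw [mv_eq g.2, vF_foldl h, vF_zero h, zero_add, sum_range_nine]
  funext r
  simp only [Finset.sum_apply, Matrix.mulVec, dotProduct]
  refine Finset.sum_congr rfl fun z _ => ?_
  rw [vF_scal h _ _ (pairAt_lt _ _), Pi.smul_apply, smul_eq_mul, mul_comm]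
  congr 1
  show elt ω _ = _
  rw [← (col_check).2 g r z, reg_col h ((s : Matrix F9 F9 F) r z)]
  have he : ∀ k : Fin 2, h.reg ((s : Matrix F9 F9 F) r z) k 0 =
      decF2 18 (topGens.getD g.val 0) (idxEquiv.symm (r, k)) (idxEquiv.symm (z, 0)) := by
    intro k
    rw [← hs]
    show _ = h.big _ _ _
    rw [FieldFour.big_apply, show splitIdx (idxEquiv.symm (r, k)) = (r, k) from idxEquiv.apply_symm_apply _,
      show splitIdx (idxEquiv.symm (z, (0 : Fin 2))) = (z, 0) from idxEquiv.apply_symm_apply _]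
    rfl
  rw [he, he]

theorem norm_smul_eq {a b : ℕ} {k : F} (hk : k ≠ 0) (he : vF ω a = k • vF ω b) : ∀ l : List ℕ,
    (∀ n ∈ l, n < 9) → normB l a = true → normB l b = true → k = 1
  | [], _, hna, _ => by simp [normB] at hna
  | n :: l, hl, hna, hnb => by
    obtain ⟨z, hz⟩ := exists_ptIdx n (hl n List.mem_cons_self)
    have h1 : elt ω (pairAt n a) = k * elt ω (pairAt n b) := hz ▸ congrFun he z
    simp only [normB] at hna hnb
    by_cases ha : pairAt n a = 0
    · have hb : pairAt n b = 0 := by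
        rw [ha] at h1
        exact (elt_eq_zero h _ (pairAt_lt _ _)).1 ((mul_eq_zero.1 h1.symm).resolve_left hk)
      simp [ha] at hna
      simp [hb] at hnb
      exact norm_smul_eq hk he l (fun m hm => hl m (List.mem_cons_of_mem _ hm)) hna hnb
    · have hb : pairAt n b ≠ 0 := fun hb => ha ((elt_eq_zero h _ (pairAt_lt _ _)).1 (by
        rw [h1, hb]; simp [elt]))
      simp [ha] at hna
      simp [hb] at hnb
      rw [hna, hnb] at h1
      simpa [elt] using h1.symm

theorem eq_of_norm_smul {a b : ℕ} (ha : a < 2 ^ 18) (hb : b < 2 ^ 18) {k : F} (hk : k ≠ 0)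
    (hna : normB (List.range 9) a = true) (hnb : normB (List.range 9) b = true)
    (he : vF ω a = k • vF ω b) : a = b := by
  rw [norm_smul_eq h hk he _ (fun n hn => List.mem_range.1 hn) hna hnb, one_smul] at he
  exact vF_injOn h ha hb he

theorem exists_norm_scalar {c : ℕ} : ∀ l : List ℕ, (∀ n ∈ l, n < 9) → (∃ n ∈ l, pairAt n c ≠ 0) →
    ∃ k : F, k ≠ 0 ∧ ∀ d, vF ω d = k • vF ω c → normB l d = true
  | [], _, ⟨_, hm, _⟩ => by simp at hm
  | n :: l, hl, hex => by
    obtain ⟨z, hz⟩ := exists_ptIdx n (hl n List.mem_cons_self)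
    by_cases hc : pairAt n c = 0
    · have hex' : ∃ m ∈ l, pairAt m c ≠ 0 := by
        obtain ⟨m, hm, hm0⟩ := hex
        rcases List.mem_cons.1 hm with rfl | hm
        · exact absurd hc hm0
        · exact ⟨m, hm, hm0⟩
      obtain ⟨k, hk, hkd⟩ := exists_norm_scalar l (fun m hm => hl m (List.mem_cons_of_mem _ hm)) hex'
      refine ⟨k, hk, fun d hd => ?_⟩
      have h1 : elt ω (pairAt n d) = k * elt ω (pairAt n c) := hz ▸ congrFun hd z
      rw [hc, show elt ω 0 = (0 : F) from rfl, mul_zero] at h1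
      simp [normB, (elt_eq_zero h _ (pairAt_lt _ _)).1 h1, hkd d hd]
    · have he : elt ω (pairAt n c) ≠ 0 := fun e => hc ((elt_eq_zero h _ (pairAt_lt _ _)).1 e)
      refine ⟨(elt ω (pairAt n c))⁻¹, inv_ne_zero he, fun d hd => ?_⟩
      have h1 : elt ω (pairAt n d) = (elt ω (pairAt n c))⁻¹ * elt ω (pairAt n c) := hz ▸ congrFun hd z
      rw [inv_mul_cancel₀ he] at h1
      have h2 : pairAt n d = 1 := elt_injOn h _ (pairAt_lt _ _) 1 (by norm_num) h1
      simp [normB, h2]

theorem elt_cube : ∀ a < 4, elt ω a ^ 3 = if a = 0 then 0 else 1 := by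
  intro a ha
  interval_cases a <;> simp [elt, h.cube]
  rw [← pow_mul, mul_comm, pow_mul, h.cube, one_pow]

theorem sum_cube_list (c : ℕ) : ∀ l : List ℕ, (l.map fun n => elt ω (pairAt n c) ^ 3).sum =
    if evenB l c then 0 else 1
  | [] => by simp [evenB]
  | n :: l => by
    rw [List.map_cons, List.sum_cons, sum_cube_list c l, elt_cube h _ (pairAt_lt _ _)]
    by_cases hn : pairAt n c = 0
    · cases hb : evenB l c <;> simp [evenB, hb, hn]
    · cases hb : evenB l c <;> simp [evenB, hb, hn]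
      linear_combination h.two_eq_zero

theorem sum_cube_eq_zero (c : ℕ) : ∑ z, vF ω c z ^ 3 = 0 ↔ evenB (List.range 9) c = true := by
  rw [show ∑ z, vF ω c z ^ 3 = ((List.range 9).map fun n => elt ω (pairAt n c) ^ 3).sum from
    (sum_range_nine (fun n => elt ω (pairAt n c) ^ 3)).symm, sum_cube_list h]
  cases evenB (List.range 9) c <;> simp

/-- What a checked table gives. -/
structure Table (T : Tr) (n root : ℕ) : Prop where
  ok : ∀ i < n, entryOK T n root i = true
  pos : 0 < n

omit h in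
theorem codeOf_lt (T : Tr) (i : ℕ) : codeOf T i < 2 ^ 18 := Nat.mod_lt _ (by norm_num)

omit h in
theorem Table.norm {T : Tr} {n root : ℕ} (hT : Table T n root) {i : ℕ} (hi : i < n) :
    normB (List.range 9) (codeOf T i) = true := by
  have := hT.ok i hi
  simp only [entryOK, Bool.and_eq_true] at this
  rw [← normN_eq]
  exact this.1.2

omit h in
theorem Table.step_lt {T : Tr} {n root : ℕ} (hT : Table T n root) {i : ℕ} (hi : i < n) (g : Fin 2) :
    imgOf T i g.val < n ∧ multB (mv g.val (codeOf T i)) (codeOf T (imgOf T i g.val)) = true := by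
  have := hT.ok i hi
  simp only [entryOK, Bool.and_eq_true, Nat.blt_eq] at this
  fin_cases g
  · exact ⟨this.1.1.1.1.1, this.1.1.1.2⟩
  · exact ⟨this.1.1.1.1.2, this.1.1.2⟩

omit h in
theorem Table.strictMono {T : Tr} {n root : ℕ} (hT : Table T n root) :
    ∀ j < n, ∀ i < j, codeOf T i < codeOf T j := by
  intro j
  induction j with
  | zero => intro _ i hi; omega
  | succ j ih =>
    intro hj i hi
    have := hT.ok (j + 1) hj
    simp [entryOK, Nat.blt_eq] at this
    have hstep : codeOf T j < codeOf T (j + 1) := this.2.1.1.1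
    rcases Nat.lt_succ_iff_lt_or_eq.1 hi with h1 | h1
    · exact (ih (by omega) i h1).trans hstep
    · exact h1 ▸ hstep

omit h in
theorem Table.inj {T : Tr} {n root : ℕ} (hT : Table T n root) {i j : ℕ} (hi : i < n) (hj : j < n)
    (he : codeOf T i = codeOf T j) : i = j := by
  rcases Nat.lt_trichotomy i j with h1 | h1 | h1
  · exact absurd he (hT.strictMono j hj i h1).ne
  · exact h1
  · exact absurd he.symm (hT.strictMono i hi j h1).ne

theorem Table.mult {y t : ℕ} (hm : multB y t = true) : ∃ k : F, k ≠ 0 ∧ vF ω y = k • vF ω t := by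
  simp only [multB, Bool.or_eq_true, beq_iff_eq] at hm
  rcases hm with (rfl | rfl) | rfl
  · exact ⟨1, one_ne_zero, (one_smul _ _).symm⟩
  · exact ⟨ω, h.ne_zero, vF_wMul h _⟩
  · exact ⟨ω ^ 2, h.sq_ne_zero, vF_scal h 3 _ (by norm_num)⟩

/-- The generators move the table into itself. -/
theorem Table.closed {T : Tr} {n root : ℕ} (hT : Table T n root) :
    ∀ g ∈ threeJ3 F ω, ∀ i < n, ∃ j < n, ∃ k : F, k ≠ 0 ∧
      (g : Matrix F9 F9 F).mulVec (vF ω (codeOf T i)) = k • vF ω (codeOf T j) := by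
  intro g hg
  rw [h.threeJ3_eq, FieldFour.topGroup] at hg
  induction hg using Subgroup.closure_induction with
  | mem s hs =>
    intro i hi
    obtain ⟨c, hc, e⟩ := hs
    obtain ⟨m, hm, rfl⟩ := List.getElem_of_mem hc
    let m' : Fin 2 := ⟨m, (col_check).1 ▸ hm⟩
    obtain ⟨hlt, hmult⟩ := hT.step_lt hi m'
    obtain ⟨k, hk, hke⟩ := Table.mult h hmult
    refine ⟨_, hlt, k, hk, ?_⟩
    rw [← vF_mv h m' s (by rw [List.getD_eq_getElem _ _ hm]; exact e)]
    exact hke
  | one => exact fun i hi => ⟨i, hi, 1, one_ne_zero, by simp⟩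
  | mul a b _ _ iha ihb =>
    intro i hi
    obtain ⟨j, hj, k, hk, e⟩ := ihb i hi
    obtain ⟨m, hm, k', hk', e'⟩ := iha j hj
    refine ⟨m, hm, k * k', mul_ne_zero hk hk', ?_⟩
    rw [Units.val_mul, ← Matrix.mulVec_mulVec, e, Matrix.mulVec_smul, e', smul_smul]
  | inv a _ iha =>
    choose f hf k hk he using iha
    let F' : Fin n → Fin n := fun i => ⟨f i.1 i.2, hf i.1 i.2⟩
    have hinj : Function.Injective F' := by
      rintro ⟨i, hi⟩ ⟨j, hj⟩ hij
      have hij' : f i hi = f j hj := congrArg Fin.val hij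
      have e1 : (a : Matrix F9 F9 F).mulVec (vF ω (codeOf T i)) =
          (a : Matrix F9 F9 F).mulVec ((k i hi / k j hj) • vF ω (codeOf T j)) := by
        rw [Matrix.mulVec_smul, he j hj, he i hi, smul_smul, div_mul_cancel₀ _ (hk j hj), hij']
      have e2 := congrArg ((a⁻¹ : GL F9 F) : Matrix F9 F9 F).mulVec e1
      rw [Matrix.mulVec_mulVec, Matrix.mulVec_mulVec, Units.inv_mul, Matrix.one_mulVec,
        Matrix.one_mulVec] at e2
      exact Fin.ext (hT.inj hi hj (eq_of_norm_smul h (codeOf_lt T i) (codeOf_lt T j)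
        (div_ne_zero (hk i hi) (hk j hj)) (hT.norm hi) (hT.norm hj) e2))
    intro i hi
    obtain ⟨⟨j, hj⟩, hji⟩ := (Finite.injective_iff_surjective.1 hinj) ⟨i, hi⟩
    have hji' : f j hj = i := congrArg Fin.val hji
    refine ⟨j, hj, (k j hj)⁻¹, inv_ne_zero (hk j hj), ?_⟩
    have e1 := congrArg ((a⁻¹ : GL F9 F) : Matrix F9 F9 F).mulVec (he j hj)
    rw [Matrix.mulVec_mulVec, Units.inv_mul, Matrix.one_mulVec, Matrix.mulVec_smul, hji'] at e1
    rw [e1, smul_smul, inv_mul_cancel₀ (hk j hj), one_smul]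

/-- Every line of the table is an image of the root line. -/
theorem Table.reached {T : Tr} {n root : ℕ} (hT : Table T n root) :
    ∀ i < n, ∃ g ∈ threeJ3 F ω, ∃ k : F, k ≠ 0 ∧
      (g : Matrix F9 F9 F).mulVec (vF ω root) = k • vF ω (codeOf T i) := by
  intro i
  induction hr : rankOf T i using Nat.strong_induction_on generalizing i with
  | _ r ih =>
    intro hi
    have hok := hT.ok i hi
    simp only [entryOK, Bool.and_eq_true] at hok
    have h2 := hok.2
    rcases Nat.eq_zero_or_pos i with rfl | hpos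
    · simp at h2
      exact ⟨1, one_mem _, 1, one_ne_zero, by simp [h2]⟩
    · simp [hpos.ne', Nat.blt_eq] at h2
      obtain ⟨⟨⟨-, hp⟩, hrk⟩, himg⟩ := h2
      obtain ⟨g, hg, k, hk, e⟩ := ih _ (hr ▸ hrk) (parOf T i / 2) rfl hp
      let m : Fin 2 := ⟨parOf T i % 2, Nat.mod_lt _ (by norm_num)⟩
      obtain ⟨-, hmult⟩ := hT.step_lt hp m
      rw [show imgOf T (parOf T i / 2) m.val = i from himg] at hmult
      obtain ⟨k', hk', e'⟩ := Table.mult h hmult
      have hm : topGens.getD m.val 0 ∈ topGens := by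
        rw [List.getD_eq_getElem _ _ ((col_check).1.symm ▸ m.2)]; exact List.getElem_mem _
      obtain ⟨s, hs, es⟩ := h.topGens_mem _ hm
      refine ⟨s * g, mul_mem hs hg, k * k', mul_ne_zero hk hk', ?_⟩
      rw [Units.val_mul, ← Matrix.mulVec_mulVec, e, Matrix.mulVec_smul, ← vF_mv h m s es, e', smul_smul]

/-- The orbit of the root line has as many lines as the table. -/
theorem Table.ncard_orbit {T : Tr} {n root : ℕ} (hT : Table T n root) :
    {L : Submodule F (F9 → F) | ∃ g ∈ threeJ3 F ω,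
      L = F ∙ ((g : Matrix F9 F9 F).mulVec (vF ω root))}.ncard = n := by
  have h0 : codeOf T 0 = root := by
    have := hT.ok 0 hT.pos
    simp only [entryOK, Bool.and_eq_true] at this
    simpa using this.2
  have hline : ∀ (k : F), k ≠ 0 → ∀ v : F9 → F, (F ∙ (k • v)) = F ∙ v := fun k hk v =>
    Submodule.span_singleton_smul_eq (isUnit_iff_ne_zero.2 hk) v
  have hset : {L : Submodule F (F9 → F) | ∃ g ∈ threeJ3 F ω,
      L = F ∙ ((g : Matrix F9 F9 F).mulVec (vF ω root))} =
      (fun i => F ∙ vF ω (codeOf T i)) '' {i | i < n} := by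
    ext L
    constructor
    · rintro ⟨g, hg, rfl⟩
      obtain ⟨j, hj, k, hk, e⟩ := hT.closed h g hg 0 hT.pos
      rw [h0] at e
      exact ⟨j, hj, by rw [e, hline k hk]⟩
    · rintro ⟨i, hi, rfl⟩
      obtain ⟨g, hg, k, hk, e⟩ := hT.reached h i hi
      exact ⟨g, hg, by rw [e, hline k hk]⟩
  rw [hset, Set.InjOn.ncard_image]
  · exact Set.ncard_eq_toFinset_card' _ |>.trans (by simp)
  · intro i hi j hj e
    have hm : vF ω (codeOf T i) ∈ F ∙ vF ω (codeOf T j) := by
      have e' : (F ∙ vF ω (codeOf T i)) = F ∙ vF ω (codeOf T j) := e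
      rw [← e']; exact Submodule.mem_span_singleton_self _
    obtain ⟨k, hk⟩ := Submodule.mem_span_singleton.1 hm
    have hk0 : k ≠ 0 := by
      rintro rfl
      rw [zero_smul, ← vF_zero h] at hk
      have h1 := hT.norm hi
      rw [← vF_injOn h (by norm_num) (codeOf_lt T i) hk] at h1
      exact absurd h1 (by decide)
    exact hT.inj hi hj (eq_of_norm_smul h (codeOf_lt T i) (codeOf_lt T j) hk0 (hT.norm hi) (hT.norm hj) hk.symm)

end

end CfsgLib.Recognition.J3Orbits
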