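import Cfsg.Agent.Lib.Recognition.J3Orbits.Code
import Cfsg.Agent.Lib.Recognition.J3Orbits.DataIso

/-! Kernel checks of the isotropic table, first part. -/

set_option autoImplicit false
set_option maxRecDepth 20000


namespace CfsgLib.Recognition.J3Orbits

open CfsgLib.Sporadic

theorem isoBlock_0 : allFrom 0 4 (blockOK isoT 43605 5) = true := by decide +kernel

theorem isoBlock_4 : allFrom 4 4 (blockOK isoT 43605 5) = true := by decide +kernel

theorem isoBlock_8 : allFrom 8 4 (blockOK isoT 43605 5) = true := by decide +kernel

theorem isoBlock_12 : allFrom 12 4 (blockOK isoT 43605 5) = true := by decide +kernel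

theorem isoBlock_16 : allFrom 16 4 (blockOK isoT 43605 5) = true := by decide +kernel

theorem isoBlock_20 : allFrom 20 4 (blockOK isoT 43605 5) = true := by decide +kernel

end CfsgLib.Recognition.J3Orbits
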