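import Cfsg.Agent.Lib.Recognition.J3Orbits.Code
import Cfsg.Agent.Lib.Recognition.J3Orbits.CheckIso

/-! Kernel checks of the isotropic table, second part. -/

set_option autoImplicit false
set_option maxRecDepth 20000

namespace CfsgLib.Recognition.J3Orbits

open CfsgLib.Sporadic

theorem isoBlock_24 : allFrom 24 4 (blockOK isoT 43605 5) = true := by decide +kernel

theorem isoBlock_28 : allFrom 28 4 (blockOK isoT 43605 5) = true := by decide +kernel

theorem isoBlock_32 : allFrom 32 4 (blockOK isoT 43605 5) = true := by decide +kernel

theorem isoBlock_36 : allFrom 36 4 (blockOK isoT 43605 5) = true := by decide +kernel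

theorem isoBlock_40 : allFrom 40 4 (blockOK isoT 43605 5) = true := by decide +kernel

theorem iso_ok : allFrom 0 44 (blockOK isoT 43605 5) = true := by
  have h := allFrom_append (allFrom_append (allFrom_append (allFrom_append (allFrom_append (allFrom_append (allFrom_append (allFrom_append (allFrom_append (allFrom_append (isoBlock_0) isoBlock_4) isoBlock_8) isoBlock_12) isoBlock_16) isoBlock_20) isoBlock_24) isoBlock_28) isoBlock_32) isoBlock_36) isoBlock_40
  simpa only [Nat.reduceAdd] using h

theorem isoCode_0 : allFrom 0 11 (fun k => allFrom (1000 * k) 1000 fun i => !Nat.blt i 43605 || isoB (codeOf isoT i)) = true := by decide +kernel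

theorem isoCode_11 : allFrom 11 11 (fun k => allFrom (1000 * k) 1000 fun i => !Nat.blt i 43605 || isoB (codeOf isoT i)) = true := by decide +kernel

theorem isoCode_22 : allFrom 22 11 (fun k => allFrom (1000 * k) 1000 fun i => !Nat.blt i 43605 || isoB (codeOf isoT i)) = true := by decide +kernel

theorem isoCode_33 : allFrom 33 11 (fun k => allFrom (1000 * k) 1000 fun i => !Nat.blt i 43605 || isoB (codeOf isoT i)) = true := by decide +kernel

theorem iso_codes : allFrom 0 44 (fun k => allFrom (1000 * k) 1000 fun i => !Nat.blt i 43605 || isoB (codeOf isoT i)) = true := by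
  have h := allFrom_append (allFrom_append (allFrom_append (isoCode_0) isoCode_11) isoCode_22) isoCode_33
  simpa only [Nat.reduceAdd] using h

end CfsgLib.Recognition.J3Orbits
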