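import Cfsg.Agent.Lib.Recognition.J3Orbits.Code
import Cfsg.Agent.Lib.Recognition.J3Orbits.DataPoint

/-! Kernel checks of the table of the first line. -/

set_option autoImplicit false
set_option maxRecDepth 20000

namespace CfsgLib.Recognition.J3Orbits

open CfsgLib.Sporadic

theorem pointBlock_0 : allFrom 0 4 (blockOK pointT 23256 1) = true := by decide +kernel

theorem pointBlock_4 : allFrom 4 4 (blockOK pointT 23256 1) = true := by decide +kernel

theorem pointBlock_8 : allFrom 8 4 (blockOK pointT 23256 1) = true := by decide +kernel

theorem pointBlock_12 : allFrom 12 4 (blockOK pointT 23256 1) = true := by decide +kernel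

theorem pointBlock_16 : allFrom 16 4 (blockOK pointT 23256 1) = true := by decide +kernel

theorem pointBlock_20 : allFrom 20 4 (blockOK pointT 23256 1) = true := by decide +kernel

theorem point_ok : allFrom 0 24 (blockOK pointT 23256 1) = true := by
  have h := allFrom_append (allFrom_append (allFrom_append (allFrom_append (allFrom_append (pointBlock_0) pointBlock_4) pointBlock_8) pointBlock_12) pointBlock_16) pointBlock_20
  simpa only [Nat.reduceAdd] using h

end CfsgLib.Recognition.J3Orbits
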