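import Cfsg.Agent.Lib.Sporadic.Chain

/-!
Vectors of nine coordinates over the field with four elements as numbers below `2 ^ 18`, two bits to
a coordinate, with the checks for a table describing an orbit on lines.
-/

set_option autoImplicit false

namespace CfsgLib.Recognition.J3Orbits

open CfsgLib.Sporadic

/-- The two bits of coordinate `n`. -/
def pairAt (n c : ℕ) : ℕ := c >>> (2 * n) % 4

/-- Multiplication by the root `ω` on every coordinate. -/
def wMul (c : ℕ) : ℕ := (c >>> 1 &&& 0x15555) ||| ((c &&& 0x15555) ^^^ (c >>> 1 &&& 0x15555)) <<< 1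

/-- A multiple of a vector by the scalar with two-bit code `k`. -/
def scal (k c : ℕ) : ℕ := (bif k % 2 == 1 then c else 0) ^^^ (bif k / 2 % 2 == 1 then wMul c else 0)

/-- The columns of the two generators. -/
def colT : List (List ℕ) :=
  [[1, 4140, 108, 4192, 51968, 180992, 4172, 133888, 182272], [32768, 65536, 4096, 4, 32, 3, 768, 2048, 192]]

/-- The part of the image coming from the coordinates `3 j, 3 j + 1, 3 j + 2`. -/
def chunk (g j a : ℕ) : ℕ :=
  scal (pairAt 0 a) ((colT.getD g []).getD (3 * j) 0) ^^^ scal (pairAt 1 a) ((colT.getD g []).getD (3 * j + 1) 0)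
    ^^^ scal (pairAt 2 a) ((colT.getD g []).getD (3 * j + 2) 0)

/-- Tables of the chunks, eighteen bits to an entry. -/
def chunkTab : List (List ℕ) :=
  [[0xc30c30c20c30430c0083bc20ee083b420ec043dc10f6043d410f40036c00da0036400d80c2bc30ae0c2b430ac0820c20820820420800426c109a042641098002dc00b6002d400b40c1dc30760c1d430740816c205a0816420580410c1042041041040001bc006e001b4006c0c06c301a0c0643018080dc2036080d42034040bc102e040b4102c0000c0002000040000, 0x4d34124b04518104007ff41efb077d81cf005e74169b05658149006cb41a2b0649818200fdf43e7b0f5d83c700cf3432cb0c71830c00eeb43aab0e69838a00dc74361b0d458341009d74265b0955824500afb42aeb0a79828e008e34228b0861820800bcf42e3b0b4d82c3002db40a6b02598086001f7406db0175804d003ef40ebb036d80cb000c34020b0041800000, 0x2cb20a284249308200ae722a984a65328900eff23af84e7d338f006d321a4846513184009eb226a84969324a001c72061841453041005df21678455d314700df3236c84d71334c00ffb23ee84f7933ce007d721e58475531c5003cf20e38434d30c300be322e884b6132c8004db212684459310600cf7232d84c75330d008ef222b8486d320b000c3202084041300000],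
   [0xdc003f000ec00330009c002f000ac00230005c001f0006c00130001c000f0002c0003000d8003e000e8003200098002e000a8002200058001e00068001200018000e000280002000d4003d000e4003100094002d000a4002100054001d00064001100014000d000240001000d0003c000e0003000090002c000a0002000050001c00060001000010000c000200000000, 0x78001a000580012000f8003a000d80032000b8002a00098002200038000a000180002000740019000540011000f40039000d40031000b400290009400210003400090001400010007c001b0005c0013000fc003b000dc0033000bc002b0009c00230003c000b0001c0003000700018000500010000f00038000d00030000b00028000900020000300008000100000, 0x1a00058001e00048003a000d8003e000c8002a00098002e00088000a00018000e00008001900054001d000440039000d4003d000c4002900094002d00084000900014000d00004001b0005c001f0004c003b000dc003f000cc002b0009c002f0008c000b0001c000f0000c001800050001c000400038000d0003c000c0002800090002c00080000800010000c000000]]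

theorem chunkTab_ok : ∀ g : Fin 2, ∀ j : Fin 3, ∀ a : Fin 64,
    ((chunkTab.getD g.val []).getD j.val 0) >>> (18 * a.val) &&& 262143 = chunk g.val j.val a.val := by
  decide +kernel

/-- A generator applied to a vector. -/
def mv (g c : ℕ) : ℕ :=
  bif g == 0 then
    Nat.xor (Nat.xor (Nat.land (Nat.shiftRight 0xc30c30c20c30430c0083bc20ee083b420ec043dc10f6043d410f40036c00da0036400d80c2bc30ae0c2b430ac0820c20820820420800426c109a042641098002dc00b6002d400b40c1dc30760c1d430740816c205a0816420580410c1042041041040001bc006e001b4006c0c06c301a0c0643018080dc2036080d42034040bc102e040b4102c0000c0002000040000 (Nat.mul 18 (Nat.mod c 64))) 262143)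
      (Nat.land (Nat.shiftRight 0x4d34124b04518104007ff41efb077d81cf005e74169b05658149006cb41a2b0649818200fdf43e7b0f5d83c700cf3432cb0c71830c00eeb43aab0e69838a00dc74361b0d458341009d74265b0955824500afb42aeb0a79828e008e34228b0861820800bcf42e3b0b4d82c3002db40a6b02598086001f7406db0175804d003ef40ebb036d80cb000c34020b0041800000 (Nat.mul 18 (Nat.mod (Nat.div c 64) 64))) 262143))
      (Nat.land (Nat.shiftRight 0x2cb20a284249308200ae722a984a65328900eff23af84e7d338f006d321a4846513184009eb226a84969324a001c72061841453041005df21678455d314700df3236c84d71334c00ffb23ee84f7933ce007d721e58475531c5003cf20e38434d30c300be322e884b6132c8004db212684459310600cf7232d84c75330d008ef222b8486d320b000c3202084041300000 (Nat.mul 18 (Nat.mod (Nat.div c 4096) 64))) 262143)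
  else
    Nat.xor (Nat.xor (Nat.land (Nat.shiftRight 0xdc003f000ec00330009c002f000ac00230005c001f0006c00130001c000f0002c0003000d8003e000e8003200098002e000a8002200058001e00068001200018000e000280002000d4003d000e4003100094002d000a4002100054001d00064001100014000d000240001000d0003c000e0003000090002c000a0002000050001c00060001000010000c000200000000 (Nat.mul 18 (Nat.mod c 64))) 262143)
      (Nat.land (Nat.shiftRight 0x78001a000580012000f8003a000d80032000b8002a00098002200038000a000180002000740019000540011000f40039000d40031000b400290009400210003400090001400010007c001b0005c0013000fc003b000dc0033000bc002b0009c00230003c000b0001c0003000700018000500010000f00038000d00030000b00028000900020000300008000100000 (Nat.mul 18 (Nat.mod (Nat.div c 64) 64))) 262143))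
      (Nat.land (Nat.shiftRight 0x1a00058001e00048003a000d8003e000c8002a00098002e00088000a00018000e00008001900054001d000440039000d4003d000c4002900094002d00084000900014000d00004001b0005c001f0004c003b000dc003f000cc002b0009c002f0008c000b0001c000f0000c001800050001c000400038000d0003c000c0002800090002c00080000800010000c000000 (Nat.mul 18 (Nat.mod (Nat.div c 4096) 64))) 262143)

theorem pairAt_mod_sixtyfour (c : ℕ) : pairAt 0 (c % 64) = pairAt 0 c ∧ pairAt 1 (c % 64) = pairAt 1 c ∧
    pairAt 2 (c % 64) = pairAt 2 c := by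
  simp only [pairAt, Nat.shiftRight_eq_div_pow]
  omega

theorem pairAt_div (n k c : ℕ) : pairAt n (c / 2 ^ (2 * k)) = pairAt (n + k) c := by
  rw [pairAt, pairAt, Nat.shiftRight_eq_div_pow, Nat.shiftRight_eq_div_pow, Nat.div_div_eq_div_mul,
    ← pow_add, show 2 * k + 2 * n = 2 * (n + k) by ring]

theorem mv_eq {g : ℕ} (hg : g < 2) (c : ℕ) : mv g c =
    (List.range 9).foldl (fun a n => a ^^^ scal (pairAt n c) ((colT.getD g []).getD n 0)) 0 := by
  have hk : ∀ j : Fin 3, ∀ a : ℕ,
      ((chunkTab.getD g []).getD j.val 0) >>> (18 * (a % 64)) &&& 262143 = chunk g j.val (a % 64) :=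
    fun j a => chunkTab_ok ⟨g, hg⟩ j ⟨a % 64, Nat.mod_lt _ (by norm_num)⟩
  have e0 : _ = chunk g 0 (c % 64) := hk 0 c
  have e1 : _ = chunk g 1 (c / 64 % 64) := hk 1 (c / 64)
  have e2 : _ = chunk g 2 (c / 4096 % 64) := hk 2 (c / 4096)
  obtain ⟨p0, p1, p2⟩ := pairAt_mod_sixtyfour c
  obtain ⟨q0, q1, q2⟩ := pairAt_mod_sixtyfour (c / 64)
  obtain ⟨r0, r1, r2⟩ := pairAt_mod_sixtyfour (c / 4096)
  have d64 : ∀ n, pairAt n (c / 64) = pairAt (n + 3) c := fun n => pairAt_div n 3 c
  have d4096 : ∀ n, pairAt n (c / 4096) = pairAt (n + 6) c := fun n => pairAt_div n 6 c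
  have hm : mv g c = chunk g 0 (c % 64) ^^^ chunk g 1 (c / 64 % 64) ^^^ chunk g 2 (c / 4096 % 64) := by
    rw [← e0, ← e1, ← e2]
    interval_cases g <;> rfl
  rw [hm]
  simp only [chunk, p0, p1, p2, q0, q1, q2, r0, r1, r2, d64, d4096, List.range_succ, List.range_zero,
    List.nil_append, List.foldl_cons, List.foldl_nil, List.cons_append, Nat.zero_xor]
  simp only [Nat.xor_assoc]

/-- The first nonzero coordinate is one. -/
def normB : List ℕ → ℕ → Bool
  | [], _ => false
  | n :: l, c => bif pairAt n c == 0 then normB l c else pairAt n c == 1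

/-- The number of nonzero coordinates is even. -/
def evenB : List ℕ → ℕ → Bool
  | [], _ => true
  | n :: l, c => xor (evenB l c) (!(pairAt n c == 0))

/-- The first nonzero coordinate is one, unrolled. -/
def normN (c : ℕ) : Bool := (bif pairAt 0 c == 0 then (bif pairAt 1 c == 0 then (bif pairAt 2 c == 0 then (bif pairAt 3 c == 0 then (bif pairAt 4 c == 0 then (bif pairAt 5 c == 0 then (bif pairAt 6 c == 0 then (bif pairAt 7 c == 0 then (bif pairAt 8 c == 0 then false else pairAt 8 c == 1) else pairAt 7 c == 1) else pairAt 6 c == 1) else pairAt 5 c == 1) else pairAt 4 c == 1) else pairAt 3 c == 1) else pairAt 2 c == 1) else pairAt 1 c == 1) else pairAt 0 c == 1)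

/-- The number of nonzero coordinates is even, unrolled. -/
def evenN (c : ℕ) : Bool := (xor (xor (xor (xor (xor (xor (xor (xor (xor true (!(pairAt 8 c == 0))) (!(pairAt 7 c == 0))) (!(pairAt 6 c == 0))) (!(pairAt 5 c == 0))) (!(pairAt 4 c == 0))) (!(pairAt 3 c == 0))) (!(pairAt 2 c == 0))) (!(pairAt 1 c == 0))) (!(pairAt 0 c == 0)))

theorem normN_eq (c : ℕ) : normN c = normB (List.range 9) c := rfl

theorem evenN_eq (c : ℕ) : evenN c = evenB (List.range 9) c := rfl

/-- A normalised code of a nonzero isotropic vector. -/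
def isoB (c : ℕ) : Bool := normN c && evenN c

/-- The code in an entry. -/
noncomputable def codeOf (T : Tr) (i : ℕ) : ℕ := T.get i % 2 ^ 18

/-- The indices of the images in an entry. -/
noncomputable def imgOf (T : Tr) (i g : ℕ) : ℕ := T.get i >>> (18 + 16 * g) % 2 ^ 16

/-- The parent in an entry. -/
noncomputable def parOf (T : Tr) (i : ℕ) : ℕ := T.get i >>> 50 % 2 ^ 17

/-- The rank in an entry. -/
noncomputable def rankOf (T : Tr) (i : ℕ) : ℕ := T.get i >>> 67

/-- The code `y` is a nonzero multiple of `t`. -/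
noncomputable def multB (y t : ℕ) : Bool := y == t || y == wMul t || y == scal 3 t

/-- The check of one entry of a table of `n` lines, rooted at the code `root` in position 0. -/
noncomputable def entryOK (T : Tr) (n root i : ℕ) : Bool :=
  Nat.blt (imgOf T i 0) n && Nat.blt (imgOf T i 1) n &&
  multB (mv 0 (codeOf T i)) (codeOf T (imgOf T i 0)) &&
  multB (mv 1 (codeOf T i)) (codeOf T (imgOf T i 1)) &&
  normN (codeOf T i) &&
  (bif i == 0 then codeOf T i == root
   else Nat.blt (codeOf T (i - 1)) (codeOf T i) && Nat.blt (parOf T i / 2) n &&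
     Nat.blt (rankOf T (parOf T i / 2)) (rankOf T i) &&
     imgOf T (parOf T i / 2) (parOf T i % 2) == i)

/-- Entries in blocks. -/
noncomputable def blockOK (T : Tr) (n root k : ℕ) : Bool :=
  allFrom (1000 * k) 1000 fun i => !Nat.blt i n || entryOK T n root i

theorem entry_of_blocks {T : Tr} {n root m : ℕ} (h : allFrom 0 m (blockOK T n root) = true)
    (hn : n ≤ 1000 * m) {i : ℕ} (hi : i < n) : entryOK T n root i = true := by
  have hb := of_allFrom_zero h (i := i / 1000) (by omega)
  have := allFrom_eq_true.1 hb i (by omega) (by omega)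
  have hb : Nat.blt i n = true := by simpa [Nat.blt_eq] using hi
  simpa [hb] using this

/-- Even weight on the lowest `m` coordinates, by recursion. -/
def evR : ℕ → ℕ → Bool
  | 0, _ => true
  | m + 1, c => xor (evR m (c / 4)) (!(c % 4 == 0))

/-- Normalised on the lowest `m` coordinates, by recursion. -/
def nrR : ℕ → ℕ → Bool
  | 0, _ => false
  | m + 1, c => bif c % 4 == 0 then nrR m (c / 4) else c % 4 == 1

theorem pairAt_succ (n c : ℕ) : pairAt (n + 1) c = pairAt n (c / 4) := (pairAt_div n 1 c).symm

theorem evenB_map_succ (c : ℕ) : ∀ l : List ℕ, evenB (l.map Nat.succ) c = evenB l (c / 4)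
  | [] => rfl
  | n :: l => by simp [evenB, evenB_map_succ c l, pairAt_succ]

theorem normB_map_succ (c : ℕ) : ∀ l : List ℕ, normB (l.map Nat.succ) c = normB l (c / 4)
  | [] => rfl
  | n :: l => by simp [normB, normB_map_succ c l, pairAt_succ]

theorem rec_eq : ∀ m c : ℕ, evR m c = evenB (List.range m) c ∧ nrR m c = normB (List.range m) c
  | 0, c => ⟨rfl, rfl⟩
  | m + 1, c => by
    obtain ⟨h1, h2⟩ := rec_eq m (c / 4)
    rw [List.range_succ_eq_map, evenB, normB, evenB_map_succ, normB_map_succ, ← h1, ← h2]
    exact ⟨by simp [evR, pairAt], by simp [nrR, pairAt]⟩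

theorem sum_range_four_mul (f : ℕ → ℕ) : ∀ k : ℕ, ∑ c ∈ Finset.range (4 * k), f c =
    ∑ c ∈ Finset.range k, (f (4 * c) + f (4 * c + 1) + f (4 * c + 2) + f (4 * c + 3))
  | 0 => rfl
  | k + 1 => by
    rw [Nat.mul_succ, Finset.sum_range_succ _ k, ← sum_range_four_mul f k,
      Finset.sum_range_succ, Finset.sum_range_succ, Finset.sum_range_succ, Finset.sum_range_succ]
    ring

/-- Counts of even weight, odd weight and normalised even weight among `m` coordinates. -/
def counts : ℕ → ℕ × ℕ × ℕ
  | 0 => (1, 0, 0)
  | m + 1 => ((counts m).1 + 3 * (counts m).2.1, (counts m).2.1 + 3 * (counts m).1,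
      (counts m).2.2 + (counts m).2.1)

theorem counts_eq : ∀ m : ℕ,
    (∑ c ∈ Finset.range (4 ^ m), (if evR m c then 1 else 0) = (counts m).1) ∧
    (∑ c ∈ Finset.range (4 ^ m), (if evR m c then 0 else 1) = (counts m).2.1) ∧
    (∑ c ∈ Finset.range (4 ^ m), (if nrR m c && evR m c then 1 else 0) = (counts m).2.2)
  | 0 => by simp [evR, nrR, counts]
  | m + 1 => by
    obtain ⟨h1, h2, h3⟩ := counts_eq m
    have hd : ∀ c r, r < 4 → (4 * c + r) / 4 = c ∧ (4 * c + r) % 4 = r := fun c r hr => by omega
    have e0 : ∀ c, (4 * c) / 4 = c ∧ (4 * c) % 4 = 0 := fun c => by omega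
    rw [pow_succ', sum_range_four_mul, sum_range_four_mul, sum_range_four_mul]
    simp only [evR, nrR, counts, ← h1, ← h2, ← h3, Finset.mul_sum, ← Finset.sum_add_distrib, (e0 _).1,
      (e0 _).2, (hd _ 1 (by norm_num)).1, (hd _ 1 (by norm_num)).2, (hd _ 2 (by norm_num)).1,
      (hd _ 2 (by norm_num)).2, (hd _ 3 (by norm_num)).1, (hd _ 3 (by norm_num)).2]
    refine ⟨?_, ?_, ?_⟩ <;>
      refine Finset.sum_congr rfl fun c _ => ?_ <;>
      cases evR m c <;> cases nrR m c <;> rfl

theorem card_iso : ((Finset.range (2 ^ 18)).filter fun c => isoB c = true).card = 43605 := by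
  rw [show (2 : ℕ) ^ 18 = 4 ^ 9 by norm_num, Finset.card_filter,
    show (43605 : ℕ) = (counts 9).2.2 from rfl, ← (counts_eq 9).2.2]
  refine Finset.sum_congr rfl fun c _ => ?_
  simp [isoB, normN_eq, evenN_eq, (rec_eq 9 c).1, (rec_eq 9 c).2]

end CfsgLib.Recognition.J3Orbits
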