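import Cfsg.Agent.Lib.Recognition.J3Orbits.Basic
import Cfsg.Agent.Lib.Recognition.J3Orbits.CheckPoint
import Cfsg.Agent.Lib.Recognition.J3Orbits.CheckIsoRest

/-! The orbit of the first coordinate line and the transitivity on isotropic lines. -/

set_option autoImplicit false
set_option maxRecDepth 20000

namespace CfsgLib.Recognition.J3Orbits

open CfsgLib.Sporadic CfsgLib.Sporadic.J3 Cfsg.Spor

variable {F : Type*} [Field F] {ω : F}

theorem point_table : Table pointT 23256 1 :=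
  ⟨fun _ hi => entry_of_blocks point_ok (by norm_num) hi, by norm_num⟩

theorem iso_table : Table isoT 43605 5 :=
  ⟨fun _ hi => entry_of_blocks iso_ok (by norm_num) hi, by norm_num⟩

theorem iso_code {i : ℕ} (hi : i < 43605) : isoB (codeOf isoT i) = true := by
  have hb := of_allFrom_zero iso_codes (i := i / 1000) (by omega)
  have := allFrom_eq_true.1 hb i (by omega) (by omega)
  have hb : Nat.blt i 43605 = true := by simpa [Nat.blt_eq] using hi
  simpa [hb] using this

theorem iso_complete {c : ℕ} (hc : c < 2 ^ 18) (hi : isoB c = true) :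
    ∃ i < 43605, codeOf isoT i = c := by
  have hsub : (Finset.range 43605).image (codeOf isoT) ⊆
      (Finset.range (2 ^ 18)).filter fun i => isoB i = true := by
    intro x hx
    obtain ⟨i, hi, rfl⟩ := Finset.mem_image.1 hx
    exact Finset.mem_filter.2 ⟨Finset.mem_range.2 (codeOf_lt _ _), iso_code (Finset.mem_range.1 hi)⟩
  have hcard : ((Finset.range 43605).image (codeOf isoT)).card = 43605 := by
    rw [Finset.card_image_of_injOn, Finset.card_range]
    intro i hi j hj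
    exact iso_table.inj (Finset.mem_range.1 hi) (Finset.mem_range.1 hj)
  have heq := Finset.eq_of_subset_of_card_le hsub (by rw [hcard, card_iso])
  have hmem : c ∈ (Finset.range 43605).image (codeOf isoT) := by
    rw [heq]; exact Finset.mem_filter.2 ⟨Finset.mem_range.2 hc, hi⟩
  obtain ⟨i, hi', he⟩ := Finset.mem_image.1 hmem
  exact ⟨i, Finset.mem_range.1 hi', he⟩

theorem iso_mult (h : FieldFour F ω) {v : F9 → F} (hv : v ≠ 0) (hs : ∑ z, v z ^ 3 = 0) :
    ∃ i < 43605, ∃ k : F, k ≠ 0 ∧ v = k • vF ω (codeOf isoT i) := by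
  obtain ⟨c, hc, rfl⟩ := exists_code h v
  have hex : ∃ n ∈ List.range 9, pairAt n c ≠ 0 := by
    by_contra hcon
    push Not at hcon
    refine hv (funext fun z => ?_)
    show elt ω _ = 0
    rw [hcon _ (List.mem_range.2 (ptIdx_lt z))]
    rfl
  obtain ⟨k, hk, hkd⟩ := exists_norm_scalar h _ (fun n hn => List.mem_range.1 hn) hex
  obtain ⟨d, hd, hde⟩ := exists_code h (k • vF ω c)
  have hsd : ∑ z, vF ω d z ^ 3 = 0 := by
    rw [hde]
    simp only [Pi.smul_apply, smul_eq_mul, mul_pow, ← Finset.mul_sum, hs, mul_zero]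
  obtain ⟨i, hi, hie⟩ := iso_complete hd (by
    simp [isoB, normN_eq, evenN_eq, hkd d hde, (sum_cube_eq_zero h d).1 hsd])
  exact ⟨i, hi, k⁻¹, inv_ne_zero hk, by rw [hie, hde, smul_smul, inv_mul_cancel₀ hk, one_smul]⟩

theorem iso_transitive (h : FieldFour F ω) {v w : F9 → F} (hv : v ≠ 0) (hw : w ≠ 0)
    (hsv : ∑ z, v z ^ 3 = 0) (hsw : ∑ z, w z ^ 3 = 0) :
    ∃ g ∈ threeJ3 F ω, ∃ c : F, c ≠ 0 ∧ (g : Matrix F9 F9 F).mulVec v = c • w := by
  obtain ⟨i, hi, a, ha, rfl⟩ := iso_mult h hv hsv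
  obtain ⟨j, hj, b, hb, rfl⟩ := iso_mult h hw hsw
  obtain ⟨g, hg, k, hk, e⟩ := iso_table.reached h i hi
  obtain ⟨g', hg', k', hk', e'⟩ := iso_table.reached h j hj
  refine ⟨g' * g⁻¹, mul_mem hg' (inv_mem hg), a * k⁻¹ * k' * b⁻¹,
    mul_ne_zero (mul_ne_zero (mul_ne_zero ha (inv_ne_zero hk)) hk') (inv_ne_zero hb), ?_⟩
  have e1 := congrArg ((g⁻¹ : GL F9 F) : Matrix F9 F9 F).mulVec e
  rw [Matrix.mulVec_mulVec, Units.inv_mul, Matrix.one_mulVec, Matrix.mulVec_smul] at e1
  have e2 : ((g⁻¹ : GL F9 F) : Matrix F9 F9 F).mulVec (vF ω (codeOf isoT i)) = k⁻¹ • vF ω 5 := by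
    rw [e1, smul_smul, inv_mul_cancel₀ hk, one_smul]
  rw [Units.val_mul, ← Matrix.mulVec_mulVec, Matrix.mulVec_smul, e2, smul_smul, Matrix.mulVec_smul, e',
    smul_smul, smul_smul]
  congr 1
  rw [mul_assoc (a * k⁻¹ * k') b⁻¹ b, inv_mul_cancel₀ hb, mul_one]

theorem vF_one (h : FieldFour F ω) : vF ω 1 = Pi.single (0 : F9) (1 : F) := by
  have key : ∀ z : F9, pairAt (ptIdx z) 1 = if z = 0 then 1 else 0 := by decide
  funext z
  show elt ω _ = _
  rw [key, Pi.single_apply]
  split <;> rfl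

end CfsgLib.Recognition.J3Orbits
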